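import Mathlib

/-!
# Splitting of quasi-isomorphic inclusions of complexes of free modules
-/

namespace Groth.Agent.FreeSplit

open CategoryTheory

universe u v

variable {R : Type u} [CommRing R]

theorem lift_of_range_le {N M P : Type*} [AddCommGroup N] [Module R N] [AddCommGroup M]
    [Module R M] [AddCommGroup P] [Module R P] [Module.Projective R P]
    (f : N →ₗ[R] M) (g : P →ₗ[R] M) (h : ∀ x, ∃ y, f y = g x) :
    ∃ l : P →ₗ[R] N, ∀ x, f (l x) = g x := by
  obtain ⟨l, hl⟩ := Module.projective_lifting_property f.rangeRestrict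
    (g.codRestrict (LinearMap.range f) fun x => LinearMap.mem_range.2 (h x))
    f.surjective_rangeRestrict
  exact ⟨l, fun x => congrArg Subtype.val (LinearMap.congr_fun hl x)⟩

variable {K : ChainComplex (ModuleCat.{v} R) ℕ}

theorem d_d (i j l : ℕ) (x : K.X i) : (K.d j l).hom ((K.d i j).hom x) = 0 :=
  LinearMap.congr_fun (congrArg ModuleCat.Hom.hom (K.d_comp_d i j l)) x

theorem exists_preimage_zero (hK : K.Acyclic) (x : K.X 0) : ∃ y, (K.d 1 0).hom y = x := by
  have h := (HomologicalComplex.exactAt_iff' (K := K) 1 0 0 (ChainComplex.prev ℕ 0)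
    ChainComplex.next_nat_zero).1 (hK 0)
  rw [ShortComplex.moduleCat_exact_iff] at h
  refine h x ?_
  change (K.d 0 0).hom x = 0
  rw [K.shape 0 0 (by simp)]
  rfl

theorem exists_preimage_succ (hK : K.Acyclic) (q : ℕ) (x : K.X (q + 1))
    (hx : (K.d (q + 1) q).hom x = 0) : ∃ y, (K.d (q + 2) (q + 1)).hom y = x := by
  have h := (HomologicalComplex.exactAt_iff' (K := K) (q + 2) (q + 1) q
    (ChainComplex.prev ℕ (q + 1)) (ChainComplex.next_nat_succ q)).1 (hK (q + 1))
  rw [ShortComplex.moduleCat_exact_iff] at h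
  exact h x hx

theorem exists_contraction [∀ q, Module.Free R (K.X q)] (hK : K.Acyclic) :
    ∃ s : ∀ q, K.X q →ₗ[R] K.X (q + 1), (∀ x, (K.d 1 0).hom (s 0 x) = x) ∧
      ∀ q x, (K.d (q + 2) (q + 1)).hom (s (q + 1) x) + s q ((K.d (q + 1) q).hom x) = x := by
  classical
  let P : ℕ → Type v := fun q => {s : K.X q →ₗ[R] K.X (q + 1) //
    ∀ y, (K.d (q + 1) q).hom (s ((K.d (q + 1) q).hom y)) = (K.d (q + 1) q).hom y}
  have h0 : ∃ s : K.X 0 →ₗ[R] K.X 1, ∀ x, (K.d 1 0).hom (s x) = x :=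
    lift_of_range_le (K.d 1 0).hom LinearMap.id (exists_preimage_zero hK)
  have hstep : ∀ q, ∀ s : P q, ∃ s' : P (q + 1), ∀ x,
      (K.d (q + 2) (q + 1)).hom (s'.1 x) + s.1 ((K.d (q + 1) q).hom x) = x := by
    intro q s
    obtain ⟨l, hl⟩ := lift_of_range_le (K.d (q + 2) (q + 1)).hom
      (LinearMap.id - s.1 ∘ₗ (K.d (q + 1) q).hom) fun x => exists_preimage_succ hK q _ (by
        simp [s.2 x])
    have hl' : ∀ x, (K.d (q + 2) (q + 1)).hom (l x) + s.1 ((K.d (q + 1) q).hom x) = x := by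
      intro x; rw [hl x]; simp
    refine ⟨⟨l, fun y => ?_⟩, hl'⟩
    simpa [d_d] using hl' ((K.d (q + 2) (q + 1)).hom y)
  choose nxt hnxt using hstep
  let s : ∀ q, P q := fun q => Nat.rec ⟨h0.choose, fun y => h0.choose_spec _⟩ (fun q s => nxt q s) q
  exact ⟨fun q => (s q).1, h0.choose_spec, fun q x => hnxt q (s q) x⟩

variable {A' A A'' : ChainComplex (ModuleCat.{v} R) ℕ}

theorem hom_comm {B C : ChainComplex (ModuleCat.{v} R) ℕ} (φ : B ⟶ C) (i j : ℕ) (x : B.X i) :
    (C.d i j).hom ((φ.f i).hom x) = (φ.f j).hom ((B.d i j).hom x) :=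
  LinearMap.congr_fun (congrArg ModuleCat.Hom.hom (φ.comm i j)) x

/-- A surjection onto an acyclic complex of free modules splits as chain complexes. -/
theorem exists_section (p : A ⟶ A'') [∀ q, Module.Free R (A''.X q)]
    (hp : ∀ q, Function.Surjective (p.f q).hom) (hac : A''.Acyclic) :
    ∃ h : A'' ⟶ A, ∀ q x, (p.f q).hom ((h.f q).hom x) = x := by
  obtain ⟨s, hs0, hs⟩ := exists_contraction hac
  choose σ hσ using fun q => lift_of_range_le (p.f q).hom LinearMap.id (fun x => hp q x)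
  simp only [LinearMap.id_apply] at hσ
  let hf : ∀ q, A''.X q →ₗ[R] A.X q := fun q => match q with
    | 0 => (A.d 1 0).hom ∘ₗ σ 1 ∘ₗ s 0
    | q + 1 => (A.d (q + 2) (q + 1)).hom ∘ₗ σ (q + 2) ∘ₗ s (q + 1) +
        σ (q + 1) ∘ₗ s q ∘ₗ (A''.d (q + 1) q).hom
  refine ⟨{ f := fun q => ModuleCat.ofHom (hf q), comm' := ?_ }, ?_⟩
  · intro i j hij
    obtain rfl : j + 1 = i := hij
    refine ModuleCat.hom_ext (LinearMap.ext fun x => ?_)
    change (A.d (j + 1) j).hom (hf (j + 1) x) = hf j ((A''.d (j + 1) j).hom x)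
    cases j with
    | zero => simp [hf, d_d]
    | succ j => simp [hf, d_d]
  · intro q x
    change (p.f q).hom (hf q x) = x
    cases q with
    | zero => simp [hf, ← hom_comm, hσ, hs0]
    | succ q => simp [hf, ← hom_comm, hσ, hs]

theorem acyclic_of_quasiIso (f : A' ⟶ A) (p : A ⟶ A'') [QuasiIso f]
    (hf : ∀ q, Function.Injective (f.f q).hom) (hp : ∀ q, Function.Surjective (p.f q).hom)
    (hfp : ∀ q, Function.Exact (f.f q).hom (p.f q).hom) : A''.Acyclic := by
  have w : f ≫ p = 0 := by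
    ext q x
    exact (hfp q).apply_apply_eq_zero x
  have hS : (ShortComplex.mk f p w).ShortExact :=
    HomologicalComplex.shortExact_of_degreewise_shortExact _ fun q => by
      refine { exact := ?_, mono_f := ?_, epi_g := ?_ }
      · rw [ShortComplex.moduleCat_exact_iff_range_eq_ker]
        exact (LinearMap.exact_iff.1 (hfp q)).symm
      · exact (ModuleCat.mono_iff_injective _).2 (hf q)
      · exact (ModuleCat.epi_iff_surjective _).2 (hp q)
  exact hS.acyclic_X₃ ‹_›

theorem exists_splitting (f : A' ⟶ A) (p : A ⟶ A'') [∀ q, Module.Free R (A''.X q)] [QuasiIso f]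
    (hf : ∀ q, Function.Injective (f.f q).hom) (hp : ∀ q, Function.Surjective (p.f q).hom)
    (hfp : ∀ q, Function.Exact (f.f q).hom (p.f q).hom) :
    ∃ h : A'' ⟶ A, (∀ q x, (p.f q).hom ((h.f q).hom x) = x) ∧
      ∀ q, Function.Bijective fun x : A''.X q × A'.X q => (h.f q).hom x.1 + (f.f q).hom x.2 := by
  obtain ⟨h, hh⟩ := exists_section p hp (acyclic_of_quasiIso f p hf hp hfp)
  refine ⟨h, hh, fun q => ⟨fun x y hxy => ?_, fun a => ?_⟩⟩
  · simp only at hxy
    have e1 : x.1 = y.1 := by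
      have := congrArg (p.f q).hom hxy
      simpa [hh, (hfp q).apply_apply_eq_zero] using this
    rw [e1, add_right_inj] at hxy
    exact Prod.ext e1 (hf q hxy)
  · obtain ⟨b, hb⟩ := (hfp q (a - (h.f q).hom ((p.f q).hom a))).1 (by simp [hh])
    exact ⟨((p.f q).hom a, b), by simp [hb]⟩

/-- The quotient complex by a subcomplex. -/
theorem exists_quotient (f : A' ⟶ A) :
    ∃ (Q : ChainComplex (ModuleCat.{v} R) ℕ) (p : A ⟶ Q),
      (∀ q, Nonempty ((A.X q ⧸ LinearMap.range (f.f q).hom) ≃ₗ[R] Q.X q)) ∧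
      (∀ q, Function.Surjective (p.f q).hom) ∧
      ∀ q, Function.Exact (f.f q).hom (p.f q).hom := by
  have hle : ∀ q, LinearMap.range (f.f (q + 1)).hom ≤
      (LinearMap.range (f.f q).hom).comap (A.d (q + 1) q).hom := by
    rintro q _ ⟨x, rfl⟩
    exact ⟨(A'.d (q + 1) q).hom x, (hom_comm f _ _ x).symm⟩
  let d : ∀ q, ModuleCat.of R (A.X (q + 1) ⧸ LinearMap.range (f.f (q + 1)).hom) ⟶
      ModuleCat.of R (A.X q ⧸ LinearMap.range (f.f q).hom) :=
    fun q => ModuleCat.ofHom (Submodule.mapQ _ _ (A.d (q + 1) q).hom (hle q))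
  have sq : ∀ q, d (q + 1) ≫ d q = 0 := by
    intro q
    refine ModuleCat.hom_ext (LinearMap.ext fun x => ?_)
    obtain ⟨a, rfl⟩ := Submodule.mkQ_surjective _ x
    change Submodule.mapQ _ _ _ (hle q) (Submodule.mapQ _ _ _ (hle (q + 1)) (Submodule.Quotient.mk a)) = 0
    simp [d_d]
  refine ⟨ChainComplex.of _ d sq,
    { f := fun q => ModuleCat.ofHom (Submodule.mkQ _), comm' := ?_ },
    fun q => ⟨LinearEquiv.refl R _⟩, fun q => Submodule.mkQ_surjective _, fun q => ?_⟩
  · intro i j hij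
    obtain rfl : j + 1 = i := hij
    change _ ≫ ChainComplex.of.d (fun q => ModuleCat.of R (A.X q ⧸ LinearMap.range (f.f q).hom)) d (j + 1) j = _
    rw [ChainComplex.of_d]
    rfl
  · exact LinearMap.exact_iff.2 (Submodule.ker_mkQ _)

theorem exists_retraction (f : A' ⟶ A) [QuasiIso f]
    (hf : ∀ q, Function.Injective (f.f q).hom)
    (hq : ∀ q, Module.Free R (A.X q ⧸ LinearMap.range (f.f q).hom)) :
    ∃ g : A ⟶ A', f ≫ g = 𝟙 A' := by
  obtain ⟨Q, p, hQ, hp, hfp⟩ := exists_quotient f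
  haveI : ∀ q, Module.Free R (Q.X q) := fun q =>
    haveI := hq q; Module.Free.of_equiv (hQ q).some
  obtain ⟨h, hh⟩ := exists_section p hp (acyclic_of_quasiIso f p hf hp hfp)
  choose g hg using fun q => lift_of_range_le' (f.f q).hom (hf q)
    (LinearMap.id - (h.f q).hom ∘ₗ (p.f q).hom) fun x => (hfp q _).1 (by simp [hh])
  simp only [LinearMap.sub_apply, LinearMap.id_apply, LinearMap.comp_apply] at hg
  refine ⟨{ f := fun q => ModuleCat.ofHom (g q), comm' := ?_ }, ?_⟩
  · intro i j _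
    refine ModuleCat.hom_ext (LinearMap.ext fun x => hf j ?_)
    change (f.f j).hom ((A'.d i j).hom (g i x)) = (f.f j).hom (g j ((A.d i j).hom x))
    rw [← hom_comm, hg, hg, map_sub, hom_comm h, hom_comm p]
  · ext q x
    refine hf q ?_
    change (f.f q).hom (g q ((f.f q).hom x)) = (f.f q).hom x
    simp [hg, (hfp q).apply_apply_eq_zero]
where
  lift_of_range_le' {N M P : Type v} [AddCommGroup N] [Module R N] [AddCommGroup M]
      [Module R M] [AddCommGroup P] [Module R P] (f : N →ₗ[R] M) (hf : Function.Injective f)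
      (g : P →ₗ[R] M) (h : ∀ x, ∃ y, f y = g x) : ∃ l : P →ₗ[R] N, ∀ x, f (l x) = g x :=
    ⟨(LinearEquiv.ofInjective f hf).symm.toLinearMap ∘ₗ
      g.codRestrict _ (fun x => LinearMap.mem_range.2 (h x)), fun x => by
        have := congrArg Subtype.val ((LinearEquiv.ofInjective f hf).apply_symm_apply
          ⟨g x, LinearMap.mem_range.2 (h x)⟩)
        simpa using this⟩

theorem exists_homotopy (f : A' ⟶ A) [QuasiIso f]
    (hf : ∀ q, Function.Injective (f.f q).hom)
    (hq : ∀ q, Module.Free R (A.X q ⧸ LinearMap.range (f.f q).hom))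
    (g₁ g₂ : A ⟶ A') (h₁ : f ≫ g₁ = 𝟙 A') (h₂ : f ≫ g₂ = 𝟙 A') :
    ∃ H : Homotopy g₁ g₂, ∀ i j : ℕ, f.f i ≫ H.hom i j = 0 := by
  obtain ⟨Q, p, hQ, hp, hfp⟩ := exists_quotient f
  haveI : ∀ q, Module.Free R (Q.X q) := fun q =>
    haveI := hq q; Module.Free.of_equiv (hQ q).some
  have hac := acyclic_of_quasiIso f p hf hp hfp
  obtain ⟨h, hh⟩ := exists_section p hp hac
  obtain ⟨s, hs0, hs⟩ := exists_contraction hac
  let D : A ⟶ A' := g₁ - g₂
  have hfD : f ≫ D = 0 := by simp [D, Preadditive.comp_sub, h₁, h₂]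
  have hD : ∀ q x, (D.f q).hom x = (D.f q).hom ((h.f q).hom ((p.f q).hom x)) := by
    intro q x
    obtain ⟨b, hb⟩ := (hfp q (x - (h.f q).hom ((p.f q).hom x))).1 (by simp [hh])
    have h0 : (D.f q).hom ((f.f q).hom b) = 0 :=
      LinearMap.congr_fun (congrArg ModuleCat.Hom.hom (HomologicalComplex.congr_hom hfD q)) b
    rwa [hb, map_sub, sub_eq_zero] at h0
  let H : ∀ i, A.X i →ₗ[R] A'.X (i + 1) := fun i =>
    (D.f (i + 1)).hom ∘ₗ (h.f (i + 1)).hom ∘ₗ s i ∘ₗ (p.f i).hom
  let Hom' : ∀ i j, A.X i ⟶ A'.X j := fun i j =>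
    if hij : i + 1 = j then ModuleCat.ofHom (H i) ≫ eqToHom (congrArg A'.X hij) else 0
  have hHom : ∀ i, Hom' i (i + 1) = ModuleCat.ofHom (H i) := fun i => by simp [Hom']
  refine ⟨{ hom := Hom', zero := fun i j hij => dif_neg hij, comm := ?_ }, ?_⟩
  · intro i
    cases i with
    | zero =>
      rw [Homotopy.dNext_zero_chainComplex, Homotopy.prevD_chainComplex, hHom]
      refine ModuleCat.hom_ext (LinearMap.ext fun x => ?_)
      change (g₁.f 0).hom x = 0 + (A'.d 1 0).hom (H 0 x) + (g₂.f 0).hom x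
      rw [zero_add, ← sub_eq_iff_eq_add]
      change (D.f 0).hom x = _
      simp only [H, LinearMap.comp_apply]
      rw [hom_comm D, hom_comm h, hs0]
      exact hD 0 x
    | succ q =>
      rw [Homotopy.dNext_succ_chainComplex, Homotopy.prevD_chainComplex, hHom, hHom]
      refine ModuleCat.hom_ext (LinearMap.ext fun x => ?_)
      change (g₁.f (q + 1)).hom x =
        H q ((A.d (q + 1) q).hom x) + (A'.d (q + 2) (q + 1)).hom (H (q + 1) x) + (g₂.f (q + 1)).hom x
      rw [← sub_eq_iff_eq_add]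
      change (D.f (q + 1)).hom x = _
      simp only [H, LinearMap.comp_apply]
      rw [hom_comm D, hom_comm h, ← hom_comm p, ← map_add, ← map_add]
      rw [show s q ((Q.d (q + 1) q).hom ((p.f (q + 1)).hom x)) +
        (Q.d (q + 2) (q + 1)).hom (s (q + 1) ((p.f (q + 1)).hom x)) = (p.f (q + 1)).hom x from
          (add_comm _ _).trans (hs q _)]
      exact hD _ x
  · intro i j
    by_cases hij : i + 1 = j
    · subst hij
      change f.f i ≫ Hom' i (i + 1) = 0
      rw [hHom]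
      refine ModuleCat.hom_ext (LinearMap.ext fun x => ?_)
      change H i ((f.f i).hom x) = 0
      simp [H, (hfp i).apply_apply_eq_zero]
    · change f.f i ≫ Hom' i j = 0
      simp [Hom', hij]

end Groth.Agent.FreeSplit
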